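import Mathlib

/-!
# Jordan bases of nilpotent endomorphisms
-/

set_option autoImplicit false

noncomputable section

open Polynomial

namespace Groth.Agent.Weitz36

universe u

variable {k : Type u} [Field k]

/-- `k[X] ⧸ (X^d)` as `AdjoinRoot` -/
def quotEquiv (d : ℕ) :
    AdjoinRoot ((X : k[X]) ^ d) ≃ₗ[k] (k[X] ⧸ Submodule.span k[X] {(X : k[X]) ^ d}) where
  toFun x := x
  invFun x := x
  map_add' _ _ := rfl
  map_smul' c x := by
    induction x using AdjoinRoot.induction_on with
    | ih p => rfl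
  left_inv _ := rfl
  right_inv _ := rfl

/-- the monomial basis of `k[X] ⧸ (X^d)` -/
def quotBasis (d : ℕ) : Module.Basis (Fin d) k (k[X] ⧸ Submodule.span k[X] {(X : k[X]) ^ d}) :=
  ((AdjoinRoot.powerBasis' (monic_X_pow d)).basis.reindex
    (finCongr (natDegree_X_pow d))).map (quotEquiv d)

theorem quotBasis_apply (d : ℕ) (l : Fin d) :
    quotBasis (k := k) d l
      = Submodule.Quotient.mk (p := Submodule.span k[X] {(X : k[X]) ^ d}) (X ^ l.1) := by
  simp only [quotBasis, Module.Basis.map_apply, Module.Basis.reindex_apply, PowerBasis.basis_eq_pow,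
    AdjoinRoot.powerBasis'_gen]
  show quotEquiv d (AdjoinRoot.root _ ^ _) = _
  rw [← AdjoinRoot.mk_X, ← map_pow]
  rfl

/-- Jordan normal form of a nilpotent endomorphism, as a basis made of strings -/
theorem exists_jordan_basis {V : Type u} [AddCommGroup V] [Module k V] [Module.Finite k V]
    (f : Module.End k V) (hf : IsNilpotent f) :
    ∃ (n : ℕ) (d : Fin n → ℕ) (b : Module.Basis (Σ i, Fin (d i)) k V),
      ∀ x, f (b x) = if h : x.2.1 + 1 < d x.1 then b ⟨x.1, ⟨x.2.1 + 1, h⟩⟩ else 0 := by
  classical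
  obtain ⟨N, hN⟩ := hf
  have htors : Module.IsTorsion' (Module.AEval' f) (Submonoid.powers (X : k[X])) := by
    rw [Submodule.isTorsion'_powers_iff]
    intro x
    refine ⟨N, ?_⟩
    obtain ⟨v, rfl⟩ := (Module.AEval'.of f).surjective x
    rw [Module.AEval.X_pow_smul_of, hN, zero_smul, map_zero]
  obtain ⟨n, d, ⟨e⟩⟩ := Module.torsion_by_prime_power_decomposition irreducible_X htors
  let Q : Fin n → Type u := fun i => k[X] ⧸ Submodule.span k[X] {(X : k[X]) ^ d i}
  let b : Module.Basis (Σ i, Fin (d i)) k V :=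
    (((Pi.basis fun i => quotBasis (k := k) (d i)).map
      (DirectSum.linearEquivFunOnFintype k (Fin n)
        (fun i => k[X] ⧸ Submodule.span k[X] {(X : k[X]) ^ d i})).symm).map
      (e.symm.restrictScalars k)).map (Module.AEval'.of f).symm
  refine ⟨n, d, b, ?_⟩
  have hb : ∀ x : Σ i, Fin (d i), b x = (Module.AEval'.of f).symm (e.symm (DirectSum.lof k[X] (Fin n)
      (fun i => k[X] ⧸ Submodule.span k[X] {(X : k[X]) ^ d i}) x.1
      (Submodule.Quotient.mk (X ^ x.2.1)))) := by
    intro x
    simp only [b, Module.Basis.map_apply, Pi.basis_apply, quotBasis_apply,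
      DirectSum.linearEquivFunOnFintype_symm_single]
    rfl
  intro x
  have h1 : f (b x) = (Module.AEval'.of f).symm (e.symm (DirectSum.lof k[X] (Fin n)
      (fun i => k[X] ⧸ Submodule.span k[X] {(X : k[X]) ^ d i}) x.1
      (Submodule.Quotient.mk (X ^ (x.2.1 + 1))))) := by
    rw [hb, pow_succ', ← smul_eq_mul, Submodule.Quotient.mk_smul, map_smul, map_smul,
      Module.AEval.of_symm_X_smul]
    rfl
  rw [h1]
  split_ifs with h
  · rw [hb]
  · have hl : x.2.1 + 1 = d x.1 := by omega
    have : (Submodule.Quotient.mk (X ^ (x.2.1 + 1)) :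
        k[X] ⧸ Submodule.span k[X] {(X : k[X]) ^ d x.1}) = 0 := by
      rw [Submodule.Quotient.mk_eq_zero, hl]
      exact Submodule.mem_span_singleton_self _
    rw [this, map_zero, map_zero, map_zero]

end Groth.Agent.Weitz36
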