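import Groth.Agent.Weitz36.Kernel
import Groth.Agent.Weitz36.Jordan

/-!
# Weitzenböck's theorem
-/

set_option autoImplicit false

noncomputable section

open MvPolynomial

namespace Groth.Agent.Weitz36

universe u

/-- **Weitzenböck**: the kernel of a nilpotent linear derivation is finitely generated. -/
theorem weitzenboeck (k : Type u) [Field k] [CharZero k] (n : ℕ) (M : Matrix (Fin n) (Fin n) k)
    (hM : IsNilpotent M) :
    ∃ S : Subalgebra k (MvPolynomial (Fin n) k), S.FG ∧
      ∀ f : MvPolynomial (Fin n) k, f ∈ S ↔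
        mkDerivation k (fun j : Fin n => ∑ i : Fin n, M i j • (X i : MvPolynomial (Fin n) k)) f = 0 := by
  classical
  obtain ⟨m, d, b, hb⟩ := exists_jordan_basis (Matrix.toLin' M) (hM.map Matrix.toLinAlgEquiv')
  set D := mkDerivation k (fun j : Fin n => ∑ i : Fin n, M i j • (X i : MvPolynomial (Fin n) k))
    with hD
  let L : (Fin n → k) →ₗ[k] MvPolynomial (Fin n) k :=
    Fintype.linearCombination k (fun j => (X j : MvPolynomial (Fin n) k))
  let L' : (Fin n → k) →ₗ[k] MvPolynomial (Σ i, Fin (d i)) k :=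
    b.constr k (fun x => (X x : MvPolynomial (Σ i, Fin (d i)) k))
  let Φ : MvPolynomial (Σ i, Fin (d i)) k →ₐ[k] MvPolynomial (Fin n) k := aeval (fun x => L (b x))
  let Φ' : MvPolynomial (Fin n) k →ₐ[k] MvPolynomial (Σ i, Fin (d i)) k :=
    aeval (fun j => L' (Pi.single j 1))
  have hΦ' : ∀ v, Φ' (L v) = L' v := by
    intro v
    simp only [L, Fintype.linearCombination_apply, map_sum, map_smul, Φ', aeval_X]
    simp only [← map_smul, ← map_sum]
    congr 1
    conv_rhs => rw [pi_eq_sum_univ' v]
  have hΦ : ∀ v, Φ (L' v) = L v := by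
    have : Φ.toLinearMap.comp L' = L := b.ext fun x => by
      simp only [LinearMap.comp_apply, AlgHom.toLinearMap_apply, L', Module.Basis.constr_basis, Φ,
        aeval_X]
    exact fun v => congr($this v)
  have hL1 : ∀ j, L (Pi.single j 1) = X j := fun j => by
    simp [L, Fintype.linearCombination_apply_single]
  let Ψ : MvPolynomial (Σ i, Fin (d i)) k ≃ₐ[k] MvPolynomial (Fin n) k :=
    AlgEquiv.ofAlgHom Φ Φ'
      (algHom_ext fun j => by
        rw [AlgHom.comp_apply, AlgHom.id_apply]
        simp only [Φ', aeval_X]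
        rw [hΦ, hL1])
      (algHom_ext fun x => by
        rw [AlgHom.comp_apply, AlgHom.id_apply]
        simp only [Φ, aeval_X]
        rw [hΦ']
        simp [L', Module.Basis.constr_basis])
  have hDL : ∀ v, D (L v) = L (Matrix.toLin' M v) := by
    intro v
    simp only [L, Fintype.linearCombination_apply, map_sum, Derivation.map_smul, hD, mkDerivation_X,
      Finset.smul_sum, smul_smul, Matrix.toLin'_apply, Matrix.mulVec, dotProduct, Finset.sum_smul]
    rw [Finset.sum_comm]
    exact Finset.sum_congr rfl fun i _ => Finset.sum_congr rfl fun j _ => by rw [mul_comm]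
  have hint : ∀ p, Φ ((blockTriple k d).F p) = D (Φ p) := by
    refine map_derivation _ _ _ fun x => ?_
    simp only [Triple.F, blockTriple, mkDerivation_X, Φ, aeval_X, hDL, hb, blockF]
    split_ifs with h <;> simp
  obtain ⟨S, hfg, hS⟩ := exists_fg_ker k d
  refine ⟨S.map Ψ.toAlgHom, hfg.map _, fun f => ?_⟩
  have h1 : f ∈ S.map Ψ.toAlgHom ↔ Ψ.symm f ∈ S := by
    rw [Subalgebra.mem_map]
    constructor
    · rintro ⟨p, hp, rfl⟩
      simpa using hp
    · exact fun hp => ⟨_, hp, by simp⟩
  have h2 : Ψ ((blockTriple k d).F (Ψ.symm f)) = D f := by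
    show Φ _ = _
    rw [hint]
    congr 1
    exact Ψ.apply_symm_apply f
  rw [h1, hS, ← h2, map_eq_zero_iff _ Ψ.injective]

end Groth.Agent.Weitz36
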